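import Cfsg.Agent.O83.Sy
import Cfsg.Agent.O83.Gen

/-!
Root elements of `Ω₈⁺(2)`. The roots `0, 1, 2, 3` are simple (`1` is the branch node), `11` is the
highest root, `10 = 11 - 1`, and `r + 12` is the negative of `r < 12`.
-/

set_option autoImplicit false

namespace Cfsg.Lib.O8D

open Cfsg Cfsg.Lib.SporChar Cfsg.Lib.SporChar.Co Cfsg.Lib.O83 Subgroup

/-- The words of the root elements. -/
def rw (r : ℕ) : List ℕ :=
  [[17732, 25956], [4881, 21329], [5393, 38289], [5393, 7449], [8994, 25442], [4881, 37777],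
  [4881, 6937], [8994, 41890], [8994, 11050], [4881, 5909], [8994, 10022], [17732, 18246],
  [21572, 22086], [12561, 13589], [20753, 22809], [20753, 53649], [12834, 13862], [12561,
  14617], [12561, 45457], [12834, 14890], [12834, 45730], [12561, 29009], [12834, 29282],
  [21572, 29796]].getD r []

/-- The root elements. -/
def X (r : ℕ) : Om8 := W (rw r)

/-- The inner product plus two. -/
def ip (a b : ℕ) : ℕ := Nat.land (Nat.shiftRight 0x8db6db49a04924948a71b6926cb2092922596e24d96d124244b2536d44cb6532504592d16d285b2d32520c965169b3126592896122cb6996a22d928b28264b68b69425b2992906c94db2c988a44965b09a4d965950a44b2cb41a6524db2612d24496c34cb64b48c4592d949804924948a8db6db49a20929225971b6926cb24244b2536e24d96d12504592d16d44cb6532520c96516d285b2d32896122cb69b31265928b28264b6996a22d92992906c968b69425b44965b09a4db2c988a44b2cb41a4d965950a2d24496c36524db2614592d94984cb64b48c (Nat.mul 3 (Nat.add (Nat.mul 24 a) b))) 7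

/-- The reflection of `b` in `a`. -/
def rf (a b : ℕ) : ℕ := Nat.land (Nat.shiftRight 0x5848531d097b94cbb61194e9518ac06a8021ca303a2e90d98e798a49d1758313498877299b6202a83b9eb8c82a8baa8982e3259a6289343b16f8283293eb43dc02b11a530d289ad8e540319d9ccb9a300d4743a8405c8a46a5e8a59f7648b0a84534286b01a244b5c7adaef74a24a4c014a963118b041d8dbce30b36b41ba4c59ca450528788c0bd256855b378a2c5a0ca224271b8a0b5eb49bdcc9443052d2838c40315a4bd6d28d26d7ba005a5462a0e11888c5848531d097b94cbb61194e9518ac06a8021ca303a2e90d98e798a49d1758313498877299b6202a83b9eb8c82a8baa8982e3259a6289343b16f8283293eb43dc02b11a530d289ad8e540319d9ccb9a300d4743a8405c8a46a5e8a59f7648b0a84534286b01a244b5c7adaef74a24a4c014a963118b041d8dbce30b36b41ba4c59ca450528788c0bd256855b378a2c5a0ca224271b8a0b5eb49bdcc9443052d2838c40315a4bd6d28d26d7ba005a5462a0e11888c (Nat.mul 5 (Nat.add (Nat.mul 24 a) b))) 31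

/-- The word of a product of root elements. -/
def ww (l : List ℕ) : List ℕ := List.rec [] (fun r _ ih => rw r ++ ih) l

/-- A product of root elements. -/
def XX (l : List ℕ) : Om8 := (l.map X).prod

/-- The action of a word (base five) in the simple reflections. -/
def aw (w r : ℕ) : ℕ := Nat.rec (motive := fun _ => ℕ → ℕ) (fun _ => r)
  (fun _ ih w => cond (Nat.beq w 0) r (rf (Nat.mod (Nat.pred (Nat.mod w 5)) 4) (ih (Nat.div w 5)))) 12 w

/-- The Weyl group. -/
def WL : List ℕ :=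
  [0, 1, 2, 3, 4, 7, 8, 9, 11, 13, 14, 17, 19, 22, 36, 38, 39, 42, 44, 47, 58, 59, 67, 69, 72,
  86, 89, 97, 111, 113, 183, 184, 192, 194, 197, 211, 214, 222, 236, 238, 292, 294, 297, 336,
  339, 347, 361, 363, 434, 447, 486, 488, 558, 917, 919, 922, 961, 964, 972, 986, 988, 1059,
  1072, 1111, 1113, 1183, 1461, 1464, 1472, 1486, 1488, 1684, 1697, 1736, 1738, 1808, 2172,
  2236, 2238, 2433, 2792, 4586, 4589, 4597, 4611, 4613, 4809, 4822, 4861, 4863, 4933, 5297,
  5361, 5363, 5558, 5917, 7309, 7322, 7361, 7363, 7433, 8422, 8486, 8488, 8683, 9042, 10861,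
  10863, 11183, 12167, 13964, 22934, 22947, 22986, 22988, 23058, 24047, 24111, 24113, 24308,
  24667, 26486, 26488, 26808, 27792, 29589, 36547, 36611, 36613, 36808, 37167, 42111, 42113,
  42433, 43417, 45214, 54308, 55917, 60839, 114672, 114736, 114738, 114933, 115292, 120236,
  120238, 120558, 121542, 123339, 132433, 134042, 138964, 182736, 182738, 183058, 184042,
  185839, 210558, 212167, 217089, 271542, 279589, 573361, 573363, 573683, 574667, 576464,
  601183, 602792, 607714, 662167, 670214, 913683, 915292, 920214, 1052792, 1060839, 1357714,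
  2866808, 2868417, 2873339, 3005917, 3013964, 3310839, 4568417, 4576464, 5263964, 14334042,
  14342089, 15029589, 22842089, 71670214]

theorem rw_eq_1' : type_of% @rw.eq_1 := @rw.eq_1
theorem X_eq_1' : type_of% @X.eq_1 := @X.eq_1
theorem ip_eq_1' : type_of% @ip.eq_1 := @ip.eq_1
theorem rf_eq_1' : type_of% @rf.eq_1 := @rf.eq_1
theorem ww_eq_1' : type_of% @ww.eq_1 := @ww.eq_1
theorem XX_eq_1' : type_of% @XX.eq_1 := @XX.eq_1
theorem aw_eq_1' : type_of% @aw.eq_1 := @aw.eq_1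
theorem WL_eq_1' : type_of% @WL.eq_1 := @WL.eq_1

theorem XX_nil : XX [] = 1 := rfl
theorem XX_cons (r : ℕ) (l : List ℕ) : XX (r :: l) = X r * XX l := List.prod_cons

theorem W_ww (l : List ℕ) : W (ww l) = XX l := by
  induction l with
  | nil => rfl
  | cons r l ih => rw [XX_cons, ← ih, X, ← W_append]; rfl

theorem XX_eq {l l' : List ℕ} (h : chk (ww l) (ww l') = true) : XX l = XX l' := by
  rw [← W_ww, ← W_ww, W_eq h]

theorem XX_ne {l l' : List ℕ} (h : chk (ww l) (ww l') = false) : XX l ≠ XX l' := by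
  rw [← W_ww, ← W_ww]; exact W_ne h

theorem XX_mem {M : Subgroup Om8} {l : List ℕ} (h : ∀ r ∈ l, X r ∈ M) : XX l ∈ M :=
  list_prod_mem fun _ k => by obtain ⟨r, hr, rfl⟩ := List.mem_map.1 k; exact h r hr

theorem rf_lt : ∀ a < 24, ∀ b < 24, rf a b < 24 := by decide +kernel

theorem ip_cases : ∀ a < 24, ∀ b < 24,
    ip a b = 0 ∨ ip a b = 1 ∨ ip a b = 2 ∨ ip a b = 3 ∨ a = b := by decide +kernel

theorem ip_comm : ∀ a < 24, ∀ b < 24, ip a b = ip b a := by decide +kernel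

theorem ip_rf : ∀ a < 24, ∀ b < 24, ip a b = 1 →
    ip a (rf a b) = 3 ∧ ip b (rf a b) = 3 ∧ rf b a = rf a b := by decide +kernel

theorem ip_opp : ∀ a < 24, ∀ b < 24, ip a b = 0 →
    ∃ u < 24, ∃ v < 24, ip u v = 1 ∧ rf u v = b ∧ ip a u = 1 ∧ ip a v = 1 := by decide +kernel

variable {a b r : ℕ}

theorem X_sq (h : r < 24) : X r * X r = 1 := by
  simpa [XX] using XX_eq ((by decide +kernel : ∀ r < 24, chk (ww [r, r]) (ww []) = true) r h)

theorem X_inv (h : r < 24) : (X r)⁻¹ = X r := inv_eq_of_mul_eq_one_right (X_sq h)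

theorem X_ne (h : r < 24) : X r ≠ 1 := by
  simpa [XX] using XX_ne ((by decide +kernel : ∀ r < 24, chk (ww [r]) (ww []) = false) r h)

theorem X_c0 (ha : a < 24) (hb : b < 24) (h : 2 ≤ ip a b) : Commute (X a) (X b) := by
  simpa [XX, commute_iff_eq] using XX_eq ((by decide +kernel : ∀ a < 24, ∀ b < 24, 2 ≤ ip a b →
    chk (ww [a, b]) (ww [b, a]) = true) a ha b hb h)

theorem X_c1 (ha : a < 24) (hb : b < 24) (h : ip a b = 1) :
    X a * X b * (X a)⁻¹ = X b * X (rf a b) := by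
  simpa [XX, X_inv ha, mul_assoc] using XX_eq ((by decide +kernel : ∀ a < 24, ∀ b < 24, ip a b = 1 →
    chk (ww [a, b, a]) (ww [b, rf a b]) = true) a ha b hb h)

theorem X_n {i : ℕ} (hi : i < 4) (h : r < 24) :
    XX [i, i + 12, i] * X r * (XX [i, i + 12, i])⁻¹ = X (rf i r) := by
  rw [mul_inv_eq_iff_eq_mul]
  simpa [XX, mul_assoc] using XX_eq ((by decide +kernel : ∀ i < 4, ∀ r < 24,
    chk (ww [i, i + 12, i, r]) (ww [rf i r, i, i + 12, i]) = true) i hi r h)

theorem exists_aw (w : ℕ) : ∃ l : Om8, ∀ r < 24, aw w r < 24 ∧ l * X r * l⁻¹ = X (aw w r) := by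
  unfold aw
  generalize 12 = n
  induction n generalizing w with
  | zero => exact ⟨1, fun r h => ⟨h, by simp⟩⟩
  | succ n ih =>
    obtain ⟨l, k⟩ := ih (Nat.div w 5)
    have hi : Nat.mod (Nat.pred (Nat.mod w 5)) 4 < 4 := Nat.mod_lt _ (by norm_num)
    cases e : Nat.beq w 0
    · simp only [e, cond_false]
      generalize Nat.mod (Nat.pred (Nat.mod w 5)) 4 = i at hi ⊢
      refine ⟨XX [i, i + 12, i] * l, fun r h => ?_⟩
      exact ⟨rf_lt _ (by omega) _ (k r h).1, by rw [← X_n hi (k r h).1, ← (k r h).2]; group⟩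
    · exact ⟨1, fun r h => by simp only [e, cond_true]; exact ⟨h, by simp⟩⟩

theorem orb3 (ha : a < 24) (hb : b < 24) (h : ip a b = 3) :
    ∃ l : Om8, l * X 11 * l⁻¹ = X a ∧ l * X 10 * l⁻¹ = X b := by
  obtain ⟨w, -, rfl, rfl⟩ := (by decide +kernel : ∀ a < 24, ∀ b < 24, ip a b = 3 →
    ∃ w ∈ WL, aw w 11 = a ∧ aw w 10 = b) a ha b hb h
  exact (exists_aw w).imp fun l k => ⟨(k 11 (by norm_num)).2, (k 10 (by norm_num)).2⟩

theorem orb2 (ha : a < 24) (hb : b < 24) (h : ip a b = 2) :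
    ∃ i ∈ [0, 2, 3], ∃ l : Om8, l * X 11 * l⁻¹ = X a ∧ l * X i * l⁻¹ = X b := by
  obtain ⟨w, -, rfl, i, hi, rfl⟩ := (by decide +kernel : ∀ a < 24, ∀ b < 24, ip a b = 2 →
    ∃ w ∈ WL, aw w 11 = a ∧ ∃ i ∈ [0, 2, 3], aw w i = b) a ha b hb h
  exact ⟨i, hi, (exists_aw w).imp fun l k =>
    ⟨(k 11 (by norm_num)).2, (k i (by simp at hi; omega)).2⟩⟩

theorem orb1 (ha : a < 24) (hb : b < 24) (h : ip a b = 1) :
    ∃ l : Om8, l * X 1 * l⁻¹ = X a ∧ l * X 10 * l⁻¹ = X b ∧ l * X 11 * l⁻¹ = X (rf a b) := by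
  obtain ⟨w, -, rfl, rfl, e⟩ := (by decide +kernel : ∀ a < 24, ∀ b < 24, ip a b = 1 →
    ∃ w ∈ WL, aw w 1 = a ∧ aw w 10 = b ∧ aw w 11 = rf a b) a ha b hb h
  exact (exists_aw w).imp fun l k => ⟨(k 1 (by norm_num)).2, (k 10 (by norm_num)).2,
    e ▸ (k 11 (by norm_num)).2⟩

theorem orb (ha : a < 24) : ∃ l : Om8, l * X 11 * l⁻¹ = X a := by
  obtain ⟨b, hb, h⟩ := (by decide +kernel : ∀ a < 24, ∃ b < 24, ip a b = 3) a ha
  exact (orb3 ha hb h).imp fun _ k => k.1

theorem X_mem_of {M : Subgroup Om8} (ha : a < 24) (hb : b < 24) (h : ip a b = 1) (h1 : X a ∈ M)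
    (h2 : X b ∈ M) : X (rf a b) ∈ M :=
  (M.mul_mem_cancel_left h2).1 (X_c1 ha hb h ▸ mul_mem (mul_mem h1 h2) (inv_mem h1))

theorem mem_R {M : Subgroup Om8} (h : ∀ r ∈ [0, 2, 3, 4, 5, 6], X r ∈ M) :
    ∀ r < 12, r ≠ 1 → X r ∈ M := by
  have k := fun a b ha hb e => X_mem_of (M := M) (a := a) (b := b) ha hb e
  have h7 : X 7 ∈ M := k 0 5 (by norm_num) (by norm_num) rfl (h _ (by simp)) (h _ (by simp))
  have h8 : X 8 ∈ M := k 0 6 (by norm_num) (by norm_num) rfl (h _ (by simp)) (h _ (by simp))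
  have h9 : X 9 ∈ M := k 2 6 (by norm_num) (by norm_num) rfl (h _ (by simp)) (h _ (by simp))
  have h10 : X 10 ∈ M := k 0 9 (by norm_num) (by norm_num) rfl (h _ (by simp)) h9
  have h11 : X 11 ∈ M := k 4 9 (by norm_num) (by norm_num) rfl (h _ (by simp)) h9
  have : ∀ r ∈ [7, 8, 9, 10, 11], X r ∈ M := by
    simp only [List.forall_mem_cons, List.not_mem_nil, false_imp_iff, implies_true, and_true]
    exact ⟨h7, h8, h9, h10, h11⟩
  exact fun r hr h1 => ((by decide : ∀ r < 12, r ≠ 1 → r ∈ [0, 2, 3, 4, 5, 6] ∨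
    r ∈ [7, 8, 9, 10, 11]) r hr h1).elim (h r) (this r)

theorem mem_U {M : Subgroup Om8} (h : ∀ i < 4, X i ∈ M) : ∀ r < 12, X r ∈ M := fun r hr => by
  by_cases h1 : r = 1
  · exact h r (by omega)
  have k := fun a ha e h1 => X_mem_of (M := M) (a := a) (b := 1) ha (by norm_num) e h1
    (h 1 (by norm_num))
  refine mem_R (fun r m => ?_) r hr h1
  simp only [List.mem_cons, List.not_mem_nil, or_false] at m
  rcases m with rfl | rfl | rfl | rfl | rfl | rfl
  exacts [h _ (by norm_num), h _ (by norm_num), h _ (by norm_num),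
    k 0 (by norm_num) rfl (h _ (by norm_num)), k 2 (by norm_num) rfl (h _ (by norm_num)),
    k 3 (by norm_num) rfl (h _ (by norm_num))]

theorem eq_top {M : Subgroup Om8} (h : ∀ r < 24, X r ∈ M) : M = ⊤ :=
  eq_top_of_pairs fun a ha => by
    obtain ⟨l, -, h1, h2⟩ := (by decide +kernel : ∀ a ∈ [19, 35, 100, 27, 136, 31, 68],
      ∃ l ∈ [[11, 12], [12, 0, 23, 11], [4, 10, 13, 16, 4, 22, 23, 10], [5, 8, 19, 5],
        [7, 8, 19, 7, 20, 8], [1, 2, 8, 19, 2, 1], [4, 10, 16, 4, 22, 10]],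
        (∀ r ∈ l, r < 24) ∧ chk [a + 256 * 17] (ww l) = true) a ha
    rw [W_eq h2, W_ww]
    exact XX_mem fun r hr => h r (h1 r hr)

theorem eq_top' {M : Subgroup Om8} (h : ∀ i < 4, X i ∈ M ∧ X (i + 12) ∈ M) : M = ⊤ := by
  have k : ∀ i < 4, ∀ r < 24, X r ∈ M → X (rf i r) ∈ M := fun i hi r hr m => by
    have : XX [i, i + 12, i] ∈ M := XX_mem (by simp [h i hi])
    exact X_n hi hr ▸ mul_mem (mul_mem this m) (inv_mem this)
  have p := mem_U fun i hi => (h i hi).1
  have h13 := (h 1 (by norm_num)).2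
  have h16 : X 16 ∈ M := k 0 (by norm_num) 13 (by norm_num) h13
  have h17 : X 17 ∈ M := k 2 (by norm_num) 13 (by norm_num) h13
  have h18 : X 18 ∈ M := k 3 (by norm_num) 13 (by norm_num) h13
  have h19 : X 19 ∈ M := k 0 (by norm_num) 17 (by norm_num) h17
  have h20 : X 20 ∈ M := k 0 (by norm_num) 18 (by norm_num) h18
  have h21 : X 21 ∈ M := k 2 (by norm_num) 18 (by norm_num) h18
  have h22 : X 22 ∈ M := k 0 (by norm_num) 21 (by norm_num) h21
  have h23 : X 23 ∈ M := k 1 (by norm_num) 22 (by norm_num) h22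
  have : ∀ r ∈ [12, 13, 14, 15, 16, 17, 18, 19, 20, 21, 22, 23], X r ∈ M := by
    simp only [List.forall_mem_cons, List.not_mem_nil, false_imp_iff, implies_true, and_true]
    exact ⟨(h 0 (by norm_num)).2, h13, (h 2 (by norm_num)).2, (h 3 (by norm_num)).2, h16, h17, h18,
      h19, h20, h21, h22, h23⟩
  exact eq_top fun r hr => ((by decide : ∀ r < 24, r < 12 ∨
    r ∈ [12, 13, 14, 15, 16, 17, 18, 19, 20, 21, 22, 23]) r hr).elim (p r) (this r)

theorem conj_z : XX [4, 10, 16, 22] * X 11 * (XX [4, 10, 16, 22])⁻¹ = F0.z := by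
  rw [← W_ww, X, ← W_cj, z_F0]; exact W_eq (by decide +kernel)

/-- A 2-central involution is a root element. -/
theorem isConj_of_central {s : Om8} (h1 : s ≠ 1) (h2 : s * s = 1) {P : Subgroup Om8}
    (hP : Nat.card P = 2 ^ 12) (le : P ≤ centralizer {s}) : IsConj (X 11) s := by
  have : Fact (Nat.Prime 2) := ⟨Nat.prime_two⟩
  have : Finite Om8 := Nat.finite_of_card_ne_zero (by rw [card_Om8]; norm_num)
  have f : (Nat.card Om8).factorization 2 = 12 := by
    rw [card_Om8, show 174182400 = 2 ^ 12 * 42525 from rfl, Nat.factorization_mul (by norm_num)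
      (by norm_num), Nat.Prime.factorization_pow Nat.prime_two, Finsupp.add_apply,
      Nat.factorization_eq_zero_of_not_dvd (by norm_num)]
    simp
  obtain ⟨g, hg⟩ := MulAction.exists_smul_eq Om8 (Sylow.ofCard P (f ▸ hP)) (Sylow.ofCard U0 (f ▸ sy_card))
  have c : ∀ u ∈ U0, u * (g * s * g⁻¹) = g * s * g⁻¹ * u := fun u hu => by
    have : u ∈ ((g • Sylow.ofCard P (f ▸ hP) : Sylow 2 Om8) : Subgroup Om8) := by rw [hg]; exact hu
    obtain ⟨p, hp, rfl⟩ := this
    change g * p * g⁻¹ * _ = _ * (g * p * g⁻¹)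
    rw [conj_mul, conj_mul, mem_centralizer_singleton_iff.1 (le hp)]
  have s2 : g * s * g⁻¹ * (g * s * g⁻¹) = 1 := by rw [conj_mul, h2, mul_one, mul_inv_cancel]
  have m : g * s * g⁻¹ ∈ U0 := by
    have p : IsPGroup 2 (zpowers (g * s * g⁻¹)) := IsPGroup.of_card (n := 1) (by
      rw [Nat.card_zpowers, pow_one]
      exact orderOf_eq_prime (by rw [pow_two, s2]) (by simpa using h1))
    have := (Sylow.ofCard U0 (f ▸ sy_card)).is_maximal' (p.to_sup_of_normal_left'
      (IsPGroup.of_card (n := 12) sy_card) ((centralizer_le_normalizer _).trans' fun u hu => by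
        rintro _ ⟨n, rfl⟩
        exact ((show Commute u _ from c u hu).zpow_right n).symm)) le_sup_right
    exact this.le (mem_sup_left (mem_zpowers _))
  rcases F0.mem_zpowers.1 (cent_U0 ⟨m, fun q hq => c q (mem_sup_left hq)⟩) with e | e
  · exact absurd (by simpa using e) h1
  · exact (isConj_iff.2 ⟨_, conj_z⟩).trans (e ▸ (isConj_iff.2 ⟨g, rfl⟩).symm)

theorem exists_syl : ∃ P : Subgroup Om8, Nat.card P = 2 ^ 12 ∧ P ≤ centralizer {F0.z} :=
  ⟨U0, sy_card, fun x hx => by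
    obtain ⟨i, hi, j, hj, rfl⟩ := (sy_mem x).1 hx
    obtain ⟨ν, h, -⟩ := sy_acts hi hj
    exact mem_centralizer_singleton_iff.2 h.comm_z⟩

theorem isConj_aut (α : Om8 ≃* Om8) : IsConj (X 11) (α (X 11)) := by
  obtain ⟨P, h1, h2⟩ := exists_syl
  refine (isConj_of_central (P := P.map α) ((map_ne_one_iff _ α.injective).2 F0.ne)
    (by rw [← map_mul, F0.zz, map_one]) ((card_map_of_injective α.injective).trans h1) ?_).trans
    (α.toMonoidHom.map_isConj (isConj_iff.2 ⟨_, conj_z⟩).symm)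
  rintro _ ⟨x, hx, rfl⟩
  rw [mem_centralizer_singleton_iff]
  simpa using congrArg α (mem_centralizer_singleton_iff.1 (h2 hx))

end Cfsg.Lib.O8D
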